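import Cfsg.Agent.Ree.CharMain
import Cfsg.Agent.Ree.RhoType
import Cfsg.Agent.Ree.PSLDihMain
import Cfsg.Agent.S1152
import Cfsg.Agent.S1073
import Cfsg.Agent.S1157
import Cfsg.Agent.CpAutRee.Ree
import Cfsg.Agent.H404.VanishBlock

/-!
# The principal 2-block of a Ree group (helper191)

All members of the principal 2-block of a Ree group have odd degree: they are the eight rows of the pattern
`Eight` of `Ree/NumPattern.lean`.
-/

set_option autoImplicit false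

open Cfsg Cfsg.Agent.Characters.Core
open Cfsg.Agent.Ree.Interface Cfsg.Agent.Ree.Rows Cfsg.Agent.Ree.DegVal
open scoped ComplexConjugate

namespace Cfsg.Agent.H191.EB515

open Finset Cfsg.Agent.Ree Cfsg.Agent.Ree.NumCore Cfsg.Agent.Ree.NumPattern Cfsg.Agent.Ree.NumEight
  Cfsg.Agent.Ree.Numeric

section Num

variable {ι : Type*} [Fintype ι] [DecidableEq ι] {Q : ℤ} {g : ℕ} {deg val : ι → ℤ} {r : Fin 3 → ι → ℤ}
  {one : ι} {σ : ι ≃ ι}

/-- The pattern with seven rows does not occur. -/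
theorem not_seven {m : ℕ} (hQ8 : Q % 8 = 5) (hQ5 : 5 < |Q|)
    (hm : 4 * (m : ℤ) = |Q - 1|) (hb : NumBase Q g deg val r one σ)
    (ht : ∀ ℓ : ℕ, ℓ.Prime → ℓ ∣ m → ∃ a b, NumTI Q g deg val r one σ (ℓ ^ m.factorization ℓ) a b)
    {e : Fin 7 → ι} {δ : Fin 7 → ℤ} (h : Seven r one e δ) : False := by
  have hQ : 13 ≤ Q ∨ Q ≤ -11 := by
    rcases abs_cases Q with h | h <;> omega
  have hm3 : 1 < m ∧ m % 2 = 1 := by
    rcases abs_cases (Q - 1) with h | h <;> omega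
  have hm0 : m ≠ 0 := by omega
  obtain ⟨ℓ₀, hℓ₀, hℓm⟩ := Nat.exists_prime_and_dvd (by omega : m ≠ 1)
  obtain ⟨c, hc⟩ : ∃ c, 2 * c = -(Q + 1) := ⟨-(Q + 1) / 2, by omega⟩
  have hcq : (c : ℚ) = -(Q + 1) / 2 := by
    have h4 : ((2 * c : ℤ) : ℚ) = ((-(Q + 1) : ℤ) : ℚ) := by rw [hc]
    push_cast at h4
    linarith
  have hne : ∀ {x d : ℤ}, (x = 1 ∨ x = -1) → 0 < d → x * d ≠ 0 := by
    intro x d hx hd
    rcases hx with rfl | rfl <;> omega
  obtain ⟨hd, cl0, cl1, cl2⟩ := base_eqs hb h.inj h.δ_sq h.mem (seven_vals hb h hc)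
    ![![-1, 1, 0, 0, -1, -1, 0], ![-1, 0, 1, 0, -1, 0, -1], ![-1, 0, 0, 1, 0, -1, -1]]
    (by intro i j; fin_cases i
        · exact h.r0 j
        · exact h.r1 j
        · exact h.r2 j)
  obtain ⟨⟨s1, d1⟩, s5, d5⟩ := seven_gal hb h
  have q5 := hb.gal_deg (e 5)
  rw [s5] at q5
  have hd0 := hd 0
  have hd2 := hd 2
  rw [Fin.sum_univ_seven] at hd0 hd2 cl0 cl2
  simp only [Matrix.cons_val_zero, Matrix.cons_val_one, Matrix.cons_val] at hd0 hd2 cl0 cl2
  rw [q5, ← d5] at hd0 hd2 cl0 cl2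
  rw [h.zero, hb.deg_one, h.δ_zero] at hd0 hd2 cl0 cl2
  obtain ⟨H, hH⟩ : ∃ M, M = δ 1 * deg (e 1) := ⟨_, rfl⟩
  obtain ⟨D, hD⟩ : ∃ M, M = δ 3 * deg (e 3) := ⟨_, rfl⟩
  obtain ⟨Y, hY⟩ : ∃ M, M = δ 4 * deg (e 4) := ⟨_, rfl⟩
  obtain ⟨X, hX⟩ : ∃ M, M = δ 5 * deg (e 5) := ⟨_, rfl⟩
  have hstep : ∀ ℓ : ℕ, ℓ.Prime → ℓ ∣ m → Interface.kappa Q g * (2 * (H : ℚ)) = (Q + 1) ^ 3 ∧
      ((ℓ ^ m.factorization ℓ : ℕ) : ℤ) ∣ D - 1 := by
    intro ℓ hℓ hd
    obtain ⟨a, b, hab⟩ := ht ℓ hℓ hd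
    have := seven_step hb hab hQ8 h
    rw [← hH, ← hD] at this
    exact this
  rw [← hH, ← hD, ← hY, ← hX] at hd0 hd2 cl0 cl2
  have hH0 : H ≠ 0 := hH ▸ hne (h.δ_sq 1) (hb.deg_pos _)
  have hD0 : D ≠ 0 := hD ▸ hne (h.δ_sq 3) (hb.deg_pos _)
  have hY0 : Y ≠ 0 := hY ▸ hne (h.δ_sq 4) (hb.deg_pos _)
  have hX0 : X ≠ 0 := hX ▸ hne (h.δ_sq 5) (hb.deg_pos _)
  have hDX : D = 1 + 2 * X := by linarith
  have hDm : (m : ℤ) ∣ D - 1 := dvd_of_parts hm0 fun ℓ hℓ hd => (hstep ℓ hℓ hd).2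
  -- X is even
  have hX2 : (2 : ℤ) ∣ X := by
    have h1 := hb.mod8 (e 5)
    rw [seven_vals hb h hc 5] at h1
    simp only [Matrix.cons_val] at h1
    have h2 : X - (c + 1) = δ 5 * (deg (e 5) - δ 5 * (c + 1)) := by
      rw [hX]
      rcases h.δ_sq 5 with h | h <;> rw [h] <;> ring
    have h3 : (8 : ℤ) ∣ X - (c + 1) := by rw [h2]; exact h1.mul_left _
    omega
  obtain ⟨w, hw⟩ : ∃ w, 2 * X = (Q - 1) * w := by
    have hmX : (m : ℤ) * 4 ∣ 2 * X := by
      have h1 : (m : ℤ) ∣ 2 * X := by rw [hDX] at hDm; simpa using hDm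
      have hco : IsCoprime (m : ℤ) 4 := by
        rw [Int.isCoprime_iff_gcd_eq_one]
        have h5 : Nat.Coprime m 4 := by
          have : Nat.Coprime m (2 ^ 2) := Nat.Coprime.pow_right 2 (by
            rw [Nat.coprime_comm, Nat.coprime_two_left]
            exact Nat.odd_iff.mpr hm3.2)
          exact this
        exact_mod_cast h5
      exact hco.mul_dvd h1 (by omega)
    have h1 : |Q - 1| ∣ 2 * X := by rw [← hm, mul_comm]; exact hmX
    exact (abs_dvd _ _).mp h1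
  refine SevenArith.seven_false hQ hw hX0 hDX (by linarith) hH0 hY0 hD0 (Interface.kappa Q g) (hstep ℓ₀ hℓ₀ hℓm).1 ?_ ?_
  · rw [← cl0]
    push_cast
    rw [hcq]
    ring
  · rw [← cl2]
    push_cast
    rw [hcq]
    ring

omit [DecidableEq ι] in
/-- The rows of the pattern with eight rows have odd degree. -/
theorem odd_of_eight (hQ8 : Q % 8 = 5) (hb : NumBase Q g deg val r one σ)
    {e : Fin 8 → ι} {δ : Fin 8 → ℤ} (h : Eight r one e δ) (χ : ι) (hχ : ∃ i, r i χ ≠ 0) :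
    Odd (deg χ) := by
  obtain ⟨c, hc⟩ : ∃ c, 2 * c = -(Q + 1) := ⟨-(Q + 1) / 2, by omega⟩
  obtain ⟨j, rfl⟩ := (h.mem χ).1 hχ
  have h1 := eight_vals hb h hc j
  have h2 := hb.mod8 (e j)
  have h3 : (![1, 1, c, c, c, c, Q, Q] : Fin 8 → ℤ) j % 2 = 1 := by
    have hc1 : c % 2 = 1 := by omega
    have hQ1 : Q % 2 = 1 := by omega
    fin_cases j <;> simp only [Fin.zero_eta, Fin.mk_one, Fin.reduceFinMk, Matrix.cons_val_zero,
      Matrix.cons_val_one, Matrix.cons_val] <;> first | exact hc1 | exact hQ1 | norm_num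
  rw [Int.odd_iff]
  rcases h.δ_sq j with h4 | h4 <;> rw [h4] at h1 <;> omega

end Num

section Good

variable {G : Type*} [Group G] {F : Type*} [Field F] [Fintype F]
  {t : G} {L V Y : Subgroup G} {m : ℕ} {ε : ℤ}

/-- The numerical data. -/
theorem exists_num [Finite G] [Fintype (IrrCharacter G)] (h : Good F t L V Y m ε) {M : Ideal AlgInt}
    (hM : IsPModular 2 M) :
    ∃ (τ : Fin 4 → L → ℂ) (one : IrrCharacter G) (σ : IrrCharacter G ≃ IrrCharacter G), Tau M τ ∧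
      NumBase (ε * Fintype.card F) (Nat.card G) deg (val t) (r t L τ) one σ ∧
      ∀ ℓ : ℕ, ℓ.Prime → ℓ ∣ m → ∃ a b, NumTI (ε * Fintype.card F) (Nat.card G) deg (val t) (r t L τ) one σ
        (ℓ ^ m.factorization ℓ) a b := by
  classical
  have := Fintype.ofFinite V
  have := Fintype.ofFinite Y
  obtain ⟨τ, hτ, h1, h2, h3, hy1, hgal⟩ :=
    PSLTauMain.exists_tau h.iso m ε h.eps h.odd_m h.one_lt_m h.card_F M hM
  obtain ⟨p, hpF⟩ := CharP.exists F
  obtain ⟨n, hp, hn⟩ := FiniteField.card F p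
  have : Fact p.Prime := ⟨hp⟩
  have hm0 : m ≠ 0 := by have := h.one_lt_m; omega
  obtain ⟨s, hs1', hs2⟩ := GalEx.exists_sigma_field (F := F) p h.eps h.odd_m h.card_F hm0
  have hpm : ¬ p ∣ m := by
    intro hpm
    have h1 : (p : ℤ) ∣ (Fintype.card F : ℤ) := by
      rw [hn]
      exact_mod_cast dvd_pow_self p n.ne_zero
    have h2 : (p : ℤ) ∣ 4 * (m : ℤ) := Dvd.dvd.mul_left (by exact_mod_cast hpm) 4
    have h3 : (p : ℤ) ∣ ε := by
      have := dvd_sub h1 h2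
      rwa [h.card_F, add_sub_cancel_left] at this
    have h4 : (p : ℤ) ∣ 1 := by
      rcases h.eps with h5 | h5 <;> rw [h5] at h3
      · exact h3
      · exact (dvd_neg.1 h3)
    have h5 : p ∣ 1 := by exact_mod_cast h4
    exact hp.one_lt.ne' (Nat.dvd_one.1 h5)
  have hs1 : ∀ ζ : ℂ, ζ ^ m = 1 → s ζ = ζ := fun ζ hζ => hs1' ζ m dvd_rfl hpm hζ
  let one : IrrCharacter G := ⟨fun _ => 1, Blocks.Basic.isIrrCharacter_one⟩
  have hone : (one : G → ℂ) = fun _ => 1 := rfl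
  refine ⟨τ, one, _, hτ, CharTI.numBase h hM hτ h1 h2 h3 hgal (one := one) rfl s hs2, ?_⟩
  intro ℓ hℓ hd
  obtain ⟨θ, hθ, hθ1⟩ := CharTI.exists_hom (A := Y)
    (fun a b => Subtype.ext ((SectionVal.hyp_LBlock h).Y_comm a a.2 b b.2)) hℓ
    (by rw [h.Y_card]; exact hd)
  obtain ⟨ψ, -, hψ⟩ := CharTI.exists_hom (A := V)
    (fun a b => Subtype.ext (DelLoc.comm_of_exp h.V_exp a.2 b.2)) Nat.prime_two
    (by rw [h.V_card]; norm_num)
  have hT := TIInd.hyp_of_good h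
  exact ⟨TIInd.vec V Y 1 θ, TIInd.vec V Y ψ θ, CharTI.numTI h hM hτ hy1 hℓ hd one s hs1 θ hθ hθ1 ψ hψ
    (TIInd.vec V Y 1 θ) (TIInd.vec V Y ψ θ) (hT.a_coe θ) (hT.b_coe ψ θ) (hT.a_one θ hθ1 hone)
      (hT.b_one ψ hψ θ hone) (hT.aa hℓ hd θ hθ hθ1) (hT.bb hℓ hd θ hθ hθ1 ψ hψ)
      (hT.ab hℓ hd θ hθ hθ1 ψ hψ) (hT.vec_deg 1 θ) (hT.vec_deg ψ θ) (hT.vec_val h.ord_t 1 θ)
      (hT.vec_val h.ord_t ψ θ)⟩

/-- The centralizer of `t` has odd index. -/
theorem index_centralizer [Finite G] (h : Good F t L V Y m ε) :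
    ¬ 2 ∣ (Subgroup.centralizer ({t} : Set G)).index := by
  have h2 : Fact (Nat.Prime 2) := ⟨Nat.prime_two⟩
  obtain ⟨P, hP⟩ : ∃ P : Sylow 2 G, Subgroup.zpowers t ≤ P := by
    apply IsPGroup.exists_le_sylow
    apply IsPGroup.of_card (n := 1)
    rw [Nat.card_zpowers, h.ord_t, pow_one]
  have htP : t ∈ (P : Subgroup G) := hP (Subgroup.mem_zpowers t)
  have hle : (P : Subgroup G) ≤ Subgroup.centralizer ({t} : Set G) := by
    intro x hx
    rw [Subgroup.mem_centralizer_singleton_iff]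
    exact DelLoc.comm_of_exp (h.sylow_exp P) hx htP
  intro h3
  exact P.not_dvd_index (h3.trans (Subgroup.index_dvd_of_le hle))

/-- **All members of the principal 2-block have odd degree.** -/
theorem odd_of_good [Finite G] (h : Good F t L V Y m ε) {M : Ideal AlgInt} (hM : IsPModular 2 M)
    (χ : IrrCharacter G) (hχ : χ ∈ principalBlock M G) : Odd (charDegree (χ : G → ℂ)) := by
  classical
  have : Finite (IrrCharacter G) := finite_irr
  have := Fintype.ofFinite (IrrCharacter G)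
  obtain ⟨τ, one, σ, hτ, hb, ht⟩ := exists_num h hM
  obtain ⟨hQ8, hQ5, hm⟩ := CharMain.Q_arith h
  have hrow : ∃ i, r t L τ i χ ≠ 0 := by
    by_contra hcon
    push Not at hcon
    have h1 := val_section hM (CharFinal.setup h) hτ χ hχ 1 (by rw [orderOf_one]; norm_num)
    rw [Subgroup.coe_one, mul_one, Finset.sum_eq_zero (fun i _ => by rw [hcon i]; simp)] at h1
    exact H404.VanishBlock.ne_zero_of_principal hM hχ (index_centralizer h) h1
  obtain ⟨e, δ, h8⟩ | ⟨e, δ, h7⟩ := pattern hb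
  · have h1 := odd_of_eight hQ8 hb h8 χ hrow
    have h2 : Odd ((charDegree (χ : G → ℂ) : ℕ) : ℤ) := h1
    exact_mod_cast h2
  · exact absurd (not_seven hQ8 hQ5 hm hb ht h7) not_false

/-- The local data of a Ree group. -/
theorem exists_good {S : Type*} [Group S] [Finite S] (h : Cfsg.Lie.IsoRee S) :
    ∃ (K : Type) (_ : Field K) (_ : Fintype K) (t : S) (L V Y : Subgroup S) (m : ℕ) (ε : ℤ),
      Good K t L V Y m ε := by
  classical
  have h2 : Fact (Nat.Prime 2) := ⟨Nat.prime_two⟩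
  obtain ⟨K, i1, i2, k, hk, hK, ⟨f⟩⟩ := h
  have hfin : Finite ↥(Cfsg.Lie.twistedG2 K (3 ^ k)) := Finite.of_equiv _ f.toEquiv
  obtain ⟨hsimp, hc⟩ := Cfsg.Agent.S1073.result hk hK
  have hna : ∃ a b : ↥(Cfsg.Lie.twistedG2 K (3 ^ k)), a * b ≠ b * a := by
    by_contra hcon
    push Not at hcon
    exact hc ⟨⟨hcon⟩⟩
  obtain ⟨a, haH, ha1, ha2⟩ := Cfsg.Agent.S1157.exists_involution hK
  obtain ⟨⟨e0⟩, hS⟩ := Cfsg.Agent.S1152.result hK a haH ha1 ha2
  have hao : orderOf a = 2 := orderOf_eq_prime (by rw [sq, ha2]) ha1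
  have hconj0 : ∀ u v : ↥(Cfsg.Lie.twistedG2 K (3 ^ k)), orderOf u = 2 → orderOf v = 2 → IsConj u v :=
    fun u v hu hv => isConj_iff.2 (CpAutRee.Ree.exists_conj hna hS hu hv)
  -- transfer to `S`
  have hconj : ∀ u v : S, orderOf u = 2 → orderOf v = 2 → IsConj u v := by
    intro u v hu hv
    obtain ⟨c, hc⟩ := isConj_iff.1 (hconj0 (f u) (f v) (by rw [MulEquiv.orderOf_eq, hu])
      (by rw [MulEquiv.orderOf_eq, hv]))
    refine isConj_iff.2 ⟨f.symm c, f.injective ?_⟩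
    rw [map_mul, map_mul, map_inv, f.apply_symm_apply, hc]
  have hsyl : ∀ P : Sylow 2 S, Nat.card P = 8 ∧ ∀ x ∈ (P : Subgroup S), x * x = 1 := by
    intro P
    have hP : IsPGroup 2 ((P : Subgroup S).map f.toMonoidHom) := P.isPGroup'.map _
    obtain ⟨R, hR⟩ := hP.exists_le_sylow
    have hcard : Nat.card ↥((P : Subgroup S).map f.toMonoidHom) = Nat.card P :=
      (Nat.card_congr ((P : Subgroup S).equivMapOfInjective f.toMonoidHom f.injective).toEquiv).symm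
    have h8 : Nat.card P = Nat.card R := by
      rw [P.card_eq_multiplicity, R.card_eq_multiplicity, Nat.card_congr f.toEquiv]
    refine ⟨by rw [h8]; exact (hS R).1, fun x hx => f.injective ?_⟩
    rw [map_mul, map_one]
    exact (hS R).2 _ (hR ⟨x, hx, rfl⟩)
  obtain ⟨t, ht⟩ : ∃ t : S, t = f.symm a := ⟨_, rfl⟩
  have hft : f t = a := by rw [ht, f.apply_symm_apply]
  have hto : orderOf t = 2 := by rw [← MulEquiv.orderOf_eq f, hft, hao]
  have e1 : ↥(Subgroup.centralizer ({t} : Set S)) ≃*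
      ↥(Subgroup.centralizer ({a} : Set ↥(Cfsg.Lie.twistedG2 K (3 ^ k)))) := by
    refine ((Subgroup.centralizer ({t} : Set S)).equivMapOfInjective f.toMonoidHom f.injective).trans
      (MulEquiv.subgroupCongr ?_)
    ext y
    rw [Subgroup.mem_centralizer_singleton_iff]
    constructor
    · rintro ⟨b, hb, rfl⟩
      have h1 := congrArg f (Subgroup.mem_centralizer_singleton_iff.1 hb)
      rw [map_mul, map_mul, hft] at h1
      exact h1
    · intro hy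
      refine ⟨f.symm y, ?_, f.apply_symm_apply y⟩
      refine Subgroup.mem_centralizer_singleton_iff.2 (f.injective ?_)
      rw [map_mul, map_mul, f.apply_symm_apply, hft]
      exact hy
  have hcardK : Fintype.card K % 8 = 3 := by
    rw [hK, pow_succ, pow_mul, Nat.mul_mod, Nat.pow_mod]
    norm_num
  have h27 : 27 ≤ Fintype.card K := by
    rw [hK]
    calc 27 = 3 ^ (2 * 1 + 1) := by norm_num
      _ ≤ 3 ^ (2 * k + 1) := Nat.pow_le_pow_right (by norm_num) (by omega)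
  obtain ⟨m, hm, hm1, hq⟩ : ∃ m : ℕ, Odd m ∧ 1 < m ∧ (Fintype.card K : ℤ) = 4 * m + (-1 : ℤ) :=
    ⟨2 * (Fintype.card K / 8) + 1, odd_two_mul_add_one _, by omega, by push_cast; omega⟩
  obtain ⟨L, hL⟩ := LocalSetup.comp_of_iso (LocalSetup.good_of_mod (Or.inl hcardK)) hto (e1.trans e0)
  obtain ⟨s, ρ, P, Ls, V, Y, hloc⟩ := LocalSetup.exists_local (Or.inr rfl) hq hm
    (PSLDihMain.pslDih m (-1) (Or.inr rfl) hm hq) hconj (fun P => (hsyl P).1) (fun P => (hsyl P).2) hto hL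
  exact ⟨K, i1, i2, t, L, V, Y, m, -1, RhoType.good hloc hm1⟩

end Good

universe u

/-- [R2] **The principal 2-block of a Ree group.** -/
theorem odd_of_isoRee {S : Type u} [Group S] [Finite S] {M : Ideal AlgInt}
    (h : Cfsg.Lie.IsoRee S) (hM : IsPModular 2 M) (χ : IrrCharacter S)
    (hχ : χ ∈ principalBlock M S) : Odd (charDegree (χ : S → ℂ)) := by
  obtain ⟨K, _, _, t, L, V, Y, m, ε, hg⟩ := exists_good h
  exact odd_of_good hg hM χ hχ

end Cfsg.Agent.H191.EB515
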